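import Cfsg.Agent.Lib.HCI.Cu

/-! S4984: the middle double cosets do not contribute.

`W₁ = W₀`, `W₂ = g W₀`; `T₁ = {x | (g⁻¹ (x, 0, 0)).2 = 0}` (that is `W₁ ∩ W₂`) and `T₂ = {x | (g⁻¹ (x, 0, 0)).2.1 = 0}`
(that is `W₁ ∩ W₂^⊥`). -/

set_option autoImplicit false

namespace Cfsg.Lib.HCI.FS

open Module Matrix Cfsg.Lib.Char
open scoped ComplexConjugate

variable {F V : Type} [Field F] [Fintype F] [DecidableEq F] [AddCommGroup V] [Module F V] [Finite V]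
  {S : FS F V} {k : ℕ} [NeZero k] {ρ ρ' : GL (Fin k) F → ℂ} {τ τ' : S.Iso → ℂ} {g : (S.ext k).Iso}

/-- `N = {n | n ∈ P, (π n).1 ∈ rad T, (π n).2 = 1, g⁻¹ n g ∈ K}` is a subgroup whose image under `(π ·).1` is `rad T`
(`rad_le`); on `N` the Mackey summand is `ρ (π n).1 * τ 1 * conj (ρ' 1 * τ' 1)`; `sm_comp`, `mky_eq_zero`. -/
theorem mky_rad (hρ : IsCharacter _ ρ) (hc : Cu ρ) (hρ' : IsCharacter _ ρ') (hτ : IsCharacter _ τ)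
    (hτ' : IsCharacter _ τ') {T : Submodule F (Fin k → F)} (h0 : T ≠ ⊥) (h1 : T ≠ ⊤)
    (h : ∀ t ∈ T, ∀ φ : (Fin k → F) →ₗ[F] F, (∀ v ∈ T, φ v = 0) → ∃ n : (S.ext k).Iso,
      (∀ x, n.1 (x, 0, 0) = (x + φ x • t, 0, 0)) ∧ (∀ v, (n.1 (0, 0, v)).2.2 = v) ∧ g⁻¹ * n * g ∈ (S.dat k).K) :
    mky (S.dat k).P ((S.dat k).φ (tn ρ τ)) ((S.dat k).φ (tn ρ' τ')) g = 0 := by
  let D := S.dat k
  let N : Subgroup D.P := ((rad T).prod ⊥).comap D.π ⊓ D.K.comap ((MulAut.conj g⁻¹).toMonoidHom.comp D.P.subtype)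
  have m : ∀ x ∈ N, g⁻¹ * x * g ∈ D.K := fun x hx => by simpa using hx.2
  have e : N.map ((MonoidHom.fst _ _).comp D.π) = rad T := by
    refine le_antisymm (by rintro _ ⟨x, hx, rfl⟩; exact hx.1.1) (rad_le fun t ht φ hφ => ?_)
    obtain ⟨n, a, b, c⟩ := h t ht φ hφ
    have p : n ∈ D.P := ((S.spec k).mem n).2 fun x => by rw [a]; rfl
    have u : ∀ v, (D.π ⟨n, p⟩).1.1 *ᵥ v = v + φ v • t := fun v =>
      congrArg Prod.fst (((S.spec k).pi1 ⟨n, p⟩ v).symm.trans (a v))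
    refine ⟨_, ⟨⟨n, p⟩, ⟨⟨⟨fun v hv => ?_, fun v => ?_⟩, iso_ext fun v => ?_⟩, by simpa using c⟩, rfl⟩, u⟩
    · rw [u, hφ v hv, zero_smul, add_zero]
    · rw [u, add_sub_cancel_left]; exact T.smul_mem _ ht
    · exact (congrArg Prod.snd ((S.spec k).pi2 ⟨n, p⟩ 0 v)).symm.trans (b v)
  refine mky_eq_zero ((hρ.prod hτ).comp D.π) ((hρ'.prod hτ').comp D.π) (N.map D.P.subtype) (Subgroup.map_subtype_le _)
    (by rintro _ ⟨x, hx, rfl⟩; exact D.K_le (m x hx)) (sm_map D.P.subtype (Eq.trans (finsum_congr fun x => ?_)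
      (sm_comp (H := N) ((MonoidHom.fst _ _).comp D.π) (θ := fun A => ρ A * (τ 1 * conj (ρ' 1 * τ' 1))) ?_)))
  · obtain ⟨a, b⟩ := D.mem_K.1 (m x x.2)
    change D.ex (tn ρ τ) x.1.1 * conj (D.ex (tn ρ' τ') (g⁻¹ * x.1.1 * g)) = _
    rw [D.ex_of_mem _ x.1.2, D.ex_of_mem _ a, b, tn, tn, show (D.π x.1).2 = 1 from x.2.1.2, mul_assoc]; rfl
  · rw [e, sm, ← finsum_mul]; exact mul_eq_zero_of_left (hc T h0 h1) _

omit [Fintype F] [DecidableEq F] [Finite V] in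
theorem exists_fac {A B : Type*} [AddCommGroup A] [Module F A] [AddCommGroup B] [Module F B] (f : A →ₗ[F] B) {φ : A →ₗ[F] F}
    (h : ∀ v, f v = 0 → φ v = 0) : ∃ ψ : B →ₗ[F] F, ∀ v, ψ (f v) = φ v :=
  let ⟨ψ, e⟩ := f.range_dualMap_eq_dualAnnihilator_ker.ge ((Submodule.mem_dualAnnihilator φ).2 h)
  ⟨ψ, LinearMap.congr_fun e⟩

omit [DecidableEq F] [NeZero k] in
theorem Q_inv (t : Fin k → F) : (S.ext k).Q (g⁻¹.1 (t, 0, 0)) = 0 := by rw [map_Q]; simp [ext_Q, S.Q_zero]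

theorem case0 {t : Fin k → F} {φ : (Fin k → F) →ₗ[F] F} {b : (Fin k → F) × (Fin k → F) × V}
    (h1 : (S.ext k).B (g⁻¹.1 (t, 0, 0)) b = 0) (h2 : ∀ x, (S.ext k).B (g⁻¹.1 (x, 0, 0)) b = -S.ε * φ x)
    (h3 : (S.ext k).eich (g⁻¹.1 (t, 0, 0)) b ∈ (S.dat k).K) : ∃ n : (S.ext k).Iso,
      (∀ x, n.1 (x, 0, 0) = (x + φ x • t, 0, 0)) ∧ (∀ v, (n.1 (0, 0, v)).2.2 = v) ∧ g⁻¹ * n * g ∈ (S.dat k).K := by
  have e : ∀ x v, (g * (S.ext k).eich (g⁻¹.1 (t, 0, 0)) b * g⁻¹).1 (x, 0, v) =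
      (x, 0, v) - (S.ε * (S.ext k).B (g⁻¹.1 (x, 0, v)) b) • (t, 0, 0) := fun x v => by
    rw [mul_ap, mul_ap, eich_ap _ (Q_inv t) h1, map_B, show (S.ext k).B (x, 0, v) (t, 0, 0) = 0 by simp [ext_B]]
    simp only [zero_smul, add_zero, mul_zero, sub_zero, map_sub, map_smul, ap_inv, ext_ε]
  refine ⟨_, fun x => ?_, fun v => by rw [e]; simp, by simpa [mul_assoc] using h3⟩
  rw [e, h2, ← mul_assoc, mul_neg, S.ε_sq]; ext <;> simp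

/-- Case A: `n = eich a b` with `a = (t, 0, 0) = g (t', 0, 0)` and `b = g (x', 0, v')`, where
`-ε B (g⁻¹ (x, 0, 0)) (x', 0, v') = φ x` (`φ` factors through `x ↦ (g⁻¹ (x, 0, 0)).2`; extend the functional and use
`exists_B` in `S.ext k` for a functional vanishing on `W₀`: then the middle component of the vector is `0`).
`g⁻¹ n g = eich (t', 0, 0) (x', 0, v')` pointwise; `mem_K`. -/
theorem caseA {t : Fin k → F} (ht : (g⁻¹.1 (t, 0, 0)).2 = 0) {φ : (Fin k → F) →ₗ[F] F}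
    (hφ : ∀ v, (g⁻¹.1 (v, 0, 0)).2 = 0 → φ v = 0) : ∃ n : (S.ext k).Iso,
      (∀ x, n.1 (x, 0, 0) = (x + φ x • t, 0, 0)) ∧ (∀ v, (n.1 (0, 0, v)).2.2 = v) ∧ g⁻¹ * n * g ∈ (S.dat k).K := by
  obtain ⟨ψ, e⟩ := exists_fac (LinearMap.snd F _ _ ∘ₗ g⁻¹.1.toLinearMap ∘ₗ LinearMap.inl F _ _) hφ
  obtain ⟨b, hb⟩ := (S.ext k).exists_B (-S.ε • ψ ∘ₗ LinearMap.snd F _ _)
  replace hb : ∀ z, (S.ext k).B z b = -S.ε * ψ z.2 := hb
  have h1 : (S.ext k).B (g⁻¹.1 (t, 0, 0)) b = 0 := by rw [hb, ht, map_zero, mul_zero]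
  have h2 : ∀ x v, (S.ext k).B (x, 0, v) (g⁻¹.1 (t, 0, 0)) = 0 := fun x v => by rw [ext_B, ht]; simp
  refine case0 h1 (fun x => (hb _).trans (congrArg _ (e x))) (mem_K.2 ⟨fun x => ?_, fun v => ?_⟩) <;>
    rw [eich_ap _ (Q_inv t) h1, h2]
  · simp [hb, show ((0 : Fin k → F), (0 : V)) = 0 from rfl]
  · generalize g⁻¹.1 (t, 0, 0) = a at ht
    simp [ht]

/-- Case B: `n = eich (t, 0, 0) b` with `b = g (x', 0, 0)`, `-(g⁻¹ (x, 0, 0)).2.1 ⬝ᵥ x' = φ x`. With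
`a' = g⁻¹ (t, 0, 0) = (t', 0, u)` the conjugate `eich a' (x', 0, 0)` fixes `W₀` pointwise and maps `(0, 0, v)` to
`(B v u • x', 0, v)`. -/
theorem caseB {t : Fin k → F} (ht : (g⁻¹.1 (t, 0, 0)).2.1 = 0) {φ : (Fin k → F) →ₗ[F] F}
    (hφ : ∀ v, (g⁻¹.1 (v, 0, 0)).2.1 = 0 → φ v = 0) : ∃ n : (S.ext k).Iso,
      (∀ x, n.1 (x, 0, 0) = (x + φ x • t, 0, 0)) ∧ (∀ v, (n.1 (0, 0, v)).2.2 = v) ∧ g⁻¹ * n * g ∈ (S.dat k).K := by
  obtain ⟨ψ, e⟩ := exists_fac (LinearMap.fst F _ _ ∘ₗ LinearMap.snd F _ _ ∘ₗ g⁻¹.1.toLinearMap ∘ₗ LinearMap.inl F _ _) hφ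
  obtain ⟨b, hb⟩ := (S.ext k).exists_B (-S.ε • ψ ∘ₗ LinearMap.fst F _ _ ∘ₗ LinearMap.snd F _ _)
  replace hb : ∀ z, (S.ext k).B z b = -S.ε * ψ z.2.1 := hb
  have h1 : (S.ext k).B (g⁻¹.1 (t, 0, 0)) b = 0 := by rw [hb, ht, map_zero, mul_zero]
  have b1 : b.2.1 = 0 := funext fun r => by simpa [ext_B] using hb (Pi.single r 1, 0, 0)
  have b2 : b.2.2 = 0 := S.nd' _ fun v => by simpa [ext_B] using hb (0, 0, v)
  have q : (S.ext k).Q b = 0 := by simp [ext_Q, b1, b2, S.Q_zero]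
  refine case0 h1 (fun x => (hb _).trans (congrArg _ (e x))) (mem_K.2 ⟨fun x => ?_, fun v => ?_⟩) <;>
    rw [eich_ap _ (Q_inv t) h1, hb, q]
  · rw [ext_B, ht]; simp
  · simp [b2]

/-- Case D: `g (z, 0, 0) = (μ z, 0, i z)` with `i` injective and totally singular. Choose `β` with
`B (i z) (β eᵣ) = -(μ z) r` (extend, `exists_B`), `C` (`exists_con`), `κ ∈ K` (`exists_K`): `κ (0, 0, i z) = g (z, 0, 0)`.
`f p = κ * lam (1, p.2) * κ⁻¹` is a homomorphism; for `p ∈ nr i`: `π (f p) = (1, p.2)` and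
`π (g⁻¹ * f p * g) = (p.1, 1)` (`pi_eq`: `κ⁻¹ g (0, 0, v)` is orthogonal to `(0, 0, i z)`, so `lam (1, p.2)` moves it by
some `(0, 0, i z)`). Take `N = (nr i).map f`; `sm_map`, `mky_eq_zero`. -/
theorem caseD (hρ : IsCharacter _ ρ) (hρ' : IsCharacter _ ρ') (hτ : IsCharacter _ τ) (hτ' : IsCharacter _ τ')
    (hF : S.Fr ρ' τ) (h1 : ∀ x, (g.1 (x, 0, 0)).2 = 0 → x = 0) (h2 : ∀ x, (g.1 (x, 0, 0)).2.1 = 0) :
    mky (S.dat k).P ((S.dat k).φ (tn ρ τ)) ((S.dat k).φ (tn ρ' τ')) g = 0 := by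
  let D := S.dat k
  let i : (Fin k → F) →ₗ[F] V := LinearMap.snd F _ _ ∘ₗ LinearMap.snd F _ _ ∘ₗ g.1.toLinearMap ∘ₗ LinearMap.inl F _ _
  have e : ∀ z, g.1 (z, 0, 0) = ((g.1 (z, 0, 0)).1, 0, i z) := fun z => Prod.ext rfl (Prod.ext (h2 z) rfl)
  have i0 : ∀ z, i z = 0 → z = 0 := fun z hz => h1 z (Prod.ext (h2 z) hz)
  have ts : S.TS i := ⟨fun z => by have := map_Q g (z, 0, 0); rw [e] at this; simpa [ext_Q, S.Q_zero] using this,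
    fun z z' => by have := map_B g (z, 0, 0) (z', 0, 0); rw [e, e z'] at this; simpa [ext_B] using this⟩
  have : ∀ r, ∃ b, ∀ z, S.B (i z) b = -(g.1 (z, 0, 0)).1 r := fun r => by
    obtain ⟨ψ, hψ⟩ := exists_fac i (φ := -(LinearMap.proj r ∘ₗ LinearMap.fst F _ _ ∘ₗ g.1.toLinearMap ∘ₗ LinearMap.inl F _ _))
      fun v hv => by rw [i0 v hv, map_zero]
    obtain ⟨b, hb⟩ := S.exists_B ψ
    exact ⟨b, fun z => (hb _).trans (hψ z)⟩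
  choose b hb using this
  obtain ⟨C, hC⟩ := S.exists_con (Fintype.linearCombination F b)
  obtain ⟨κ, k1, k2⟩ := exists_K hC
  have k3 : ∀ z, κ.1 (0, 0, i z) = g.1 (z, 0, 0) := fun z => by
    rw [k2, e]; refine Prod.ext (funext fun r => ?_) (by simp [km]); simp [km, hb]
  have k4 : ∀ z, κ⁻¹.1 (g.1 (z, 0, 0)) = (0, 0, i z) := fun z => by rw [← k3, inv_ap]
  obtain ⟨p1, p2⟩ := D.mem_K.1 k1
  let f : GL (Fin k) F × S.Iso →* (S.ext k).Iso :=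
    ((MulAut.conj κ).toMonoidHom.comp D.lam).comp ((MonoidHom.inr _ _).comp (MonoidHom.snd _ _))
  have f0 : ∀ p, f p = κ * D.lam (1, p.2) * κ⁻¹ := fun _ => rfl
  have f1 : ∀ p, ∃ h : f p ∈ D.P, D.π ⟨f p, h⟩ = (1, p.2) := fun p => ⟨mul_mem (mul_mem p1 (D.mem _)) (inv_mem p1), by
    change D.π (⟨κ, p1⟩ * ⟨_, D.mem (1, p.2)⟩ * ⟨κ, p1⟩⁻¹) = _
    rw [map_mul, map_mul, map_inv, p2, D.sec, inv_one, one_mul, mul_one]⟩
  have l : ∀ a z, (D.lam (1, a)).1 z = (z.1, z.2.1, a.1 z.2.2) := fun a z => by simpa using (S.spec k).lam (1, a) z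
  have f2 : ∀ p ∈ S.nr i, ∃ h : g⁻¹ * f p * g ∈ D.P, D.π ⟨_, h⟩ = (p.1, 1) := fun p hp => pi_eq
    (fun x => by rw [f0, mul_ap, mul_ap, mul_ap, mul_ap, k4, l, hp.1, k3, inv_ap]) fun v => by
      obtain ⟨z, hz⟩ := hp.2 (κ⁻¹.1 (g.1 (0, 0, v))).2.2 fun z => by
        have := (map_B κ⁻¹ _ _).trans (map_B g (z, 0, 0) (0, 0, v))
        rw [k4] at this
        simpa [ext_B] using this
      rw [f0, mul_ap, mul_ap, mul_ap, mul_ap, l, eq_add_of_sub_eq' hz.symm,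
        show ∀ y : (Fin k → F) × (Fin k → F) × V, (y.1, y.2.1, y.2.2 + i z) = y + (0, 0, i z) from fun y => by ext <;> simp,
        map_add, map_add, ap_inv, inv_ap, k3, inv_ap]
      simp
  refine mky_eq_zero ((hρ.prod hτ).comp D.π) ((hρ'.prod hτ').comp D.π) ((S.nr i).map f) (by rintro _ ⟨p, -, rfl⟩; exact (f1 p).1)
    (by rintro _ ⟨p, hp, rfl⟩; exact (f2 p hp).1) (sm_map f (Eq.trans (finsum_congr fun p => ?_) ((finsum_mul _ (ρ 1 * conj (τ' 1))).symm.trans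
      (mul_eq_zero_of_left (hF i (LinearMap.ker_eq_bot.1 (LinearMap.ker_eq_bot'.2 i0)) ts) _))))
  obtain ⟨a1, a2⟩ := f1 p
  obtain ⟨a3, a4⟩ := f2 p p.2
  change D.ex (tn ρ τ) (f p) * conj (D.ex (tn ρ' τ') (g⁻¹ * f p * g)) = _
  rw [D.ex_of_mem _ a1, D.ex_of_mem _ a3, a2, a4, tn, tn, map_mul]; ring

/-- `T₁ = ⊤` gives `g⁻¹ ∈ P`, `T₂ = ⊥` gives `Big g⁻¹`; `T₁ = ⊥`, `T₂ = ⊤` is case D
(`B (g (x, 0, 0)) (y, 0, 0) = B (x, 0, 0) (g⁻¹ (y, 0, 0)) = 0`; if `g (x, 0, 0) = (x', 0, 0)` then `x' ∈ T₁`). -/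
theorem mid (hρ : IsCharacter _ ρ) (hc : Cu ρ) (hρ' : IsCharacter _ ρ') (hτ : IsCharacter _ τ)
    (hτ' : IsCharacter _ τ') (hF : S.Fr ρ' τ) : (S.dat k).Mid (tn ρ τ) (tn ρ' τ') := by
  intro g g1 g2
  let f := LinearMap.snd F _ _ ∘ₗ g⁻¹.1.toLinearMap ∘ₗ LinearMap.inl F _ _
  by_cases a : LinearMap.ker f = ⊥
  · by_cases b : LinearMap.ker (LinearMap.fst F _ _ ∘ₗ f) = ⊤
    · refine caseD hρ hρ' hτ hτ' hF (fun x hx => ?_) fun x => funext fun r => ?_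
      · have e : g.1 (x, 0, 0) = ((g.1 (x, 0, 0)).1, 0, 0) := Prod.ext rfl hx
        have e' := inv_ap g (x, 0, 0)
        rw [e] at e'
        rw [show (g.1 (x, 0, 0)).1 = 0 from LinearMap.ker_eq_bot'.1 a _ (congrArg Prod.snd e')] at e'
        exact (congrArg Prod.fst ((map_zero g⁻¹.1).symm.trans e')).symm
      · have e := map_B g⁻¹ (Pi.single r 1, 0, 0) (g.1 (x, 0, 0))
        have z : (g⁻¹.1 (Pi.single r 1, 0, 0)).2.1 = 0 := b.ge Submodule.mem_top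
        rw [inv_ap, ext_B, z] at e
        simpa [ext_B] using e.symm
    · exact mky_rad hρ hc hρ' hτ hτ' (fun e => g2 (big_inv (big_iff.2 (LinearMap.ker_eq_bot'.1 e)))) b
        fun t ht φ hφ => caseB ht hφ
  · exact mky_rad hρ hc hρ' hτ hτ' a (fun e => g1 (inv_mem_iff.1 (((S.spec k).mem _).2 fun x => e.ge Submodule.mem_top)))
      fun t ht φ hφ => caseA ht hφ

/-- `Dat.irr`, `cls_transpose`, `Dat.sign`, `lam_neg`. -/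
theorem t1 (hρ : CI ρ) (hn : NR ρ) (hτ : IsIrrCharacter _ τ) (hF : S.Fr ρ τ) :
    ∃ χ, IsIrrCharacter (S.ext k).Iso χ ∧ χ 1 = (S.dat k).P.index * gam (Fintype.card F) k * τ 1 ∧
      (ρ (-1) * τ S.neg = ρ 1 * τ 1 → χ (S.ext k).neg = χ 1) := by
  have c := hρ.irr.isCharacter
  have d := hτ.isCharacter
  obtain ⟨A, hA⟩ := hn
  refine ⟨_, (S.dat k).irr (hρ.irr.prod hτ) (mid c hρ.cu c d d hF) ⟨(A, 1), fun e => hA ?_⟩, ?_, fun e => ?_⟩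
  · rw [((S.spec k).α _).2, cls_transpose c.isClassFunction ((S.spec k).α (A, 1)).1] at e
    exact mul_right_cancel₀ hτ.apply_one_ne_zero e
  · rw [Dat.I_one, mul_assoc, ← hρ.deg]; rfl
  · exact lam_neg (S := S) (k := k) ▸ (S.dat k).sign (c.prod d) (l := (-1, S.neg)) (lam_neg (S := S) (k := k) ▸ (S.ext k).neg_mem_center) e
      ((S.dat k).isCharacter_I (c.prod d)) isCharacter_zero (add_zero _).symm

end Cfsg.Lib.HCI.FS
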